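import Groth.Agent.Curves.K325.GenusLe
import Groth.Agent.Surf.K456.FlatCurve
import Groth.Agent.Variety.K432.CurveNorm
import Groth.Agent.S1566
import Groth.Agent.S1561
import Groth.Agent.S1535

/-!
# The genus of a curve dominated by a proper integral curve

* `genus_le_of_isFinite`: a dominant morphism of smooth proper curves over an algebraically closed field does not
  increase the genus;
* `exists_smooth_model`: a proper integral curve over an algebraically closed field is finitely and birationally
  dominated by a smooth proper curve;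
* `genus_le_of_dominant`: if an integral proper curve `D` dominates a smooth proper curve `E`, then the genus of `E`
  is at most the (arithmetic) genus of `D`.
-/

set_option autoImplicit false
universe u

open CategoryTheory CategoryTheory.Limits AlgebraicGeometry TopologicalSpace

namespace K130.GenusDom

open Groth.Agent

/-- The genus does not increase under dominant morphisms of smooth proper curves over an algebraically closed
field. -/
theorem genus_le_of_isSmoothProperCurve (k : Type u) [Field k] [IsAlgClosed k] {X Y : Scheme.{u}}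
    [X.Over (Spec (CommRingCat.of k))] [Y.Over (Spec (CommRingCat.of k))]
    (hX : Curve.IsSmoothProperCurve k X (X ↘ Spec (CommRingCat.of k)))
    (hY : Curve.IsSmoothProperCurve k Y (Y ↘ Spec (CommRingCat.of k))) (f : X ⟶ Y)
    (hf : f ≫ (Y ↘ Spec (CommRingCat.of k)) = X ↘ Spec (CommRingCat.of k)) [IsDominant f] :
    Curv2.genus k Y ≤ Curv2.genus k X := by
  obtain ⟨hX1, hX2, hX3, hX4⟩ := id hX
  obtain ⟨hY1, hY2, hY3, hY4⟩ := id hY
  have hp : IsProper f := by
    have : IsProper (f ≫ (Y ↘ Spec (CommRingCat.of k))) := by rw [hf]; exact hX1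
    exact IsProper.of_comp f (Y ↘ Spec (CommRingCat.of k))
  have hfin : IsFinite f := K432.CurveNorm.isFinite_of_dominant (Y ↘ Spec (CommRingCat.of k)) f hX4 hY4
  have hflat : Flat f := K456.FlatCurve.flat_of_dominant f (fun y => S1535.result k Y y) hY4.le
  have hN : IsLocallyNoetherian Y := LocallyOfFiniteType.isLocallyNoetherian (Y ↘ Spec (CommRingCat.of k))
  have hlfp : LocallyOfFinitePresentation f := inferInstance
  let η : Y := genericPoint Y
  have hconst : ∀ y : Y, f.finrank y = f.finrank η := fun y =>
    (Scheme.Hom.isLocallyConstant_finrank f).apply_eq_of_isPreconnected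
      (PreconnectedSpace.isPreconnected_univ) (Set.mem_univ y) (Set.mem_univ η)
  have hpos : 0 < f.finrank η := by
    have x : X := genericPoint X
    have h1 := Scheme.Hom.one_le_finrank_map f x
    rw [hconst] at h1
    exact h1
  exact K325.GenusLe.genus_le k hX hY f _ hpos hconst

/-- A proper integral curve over an algebraically closed field is birationally dominated by a smooth proper curve of
smaller or equal genus. -/
theorem exists_smooth_model (k : Type u) [Field k] [IsAlgClosed k] {D : Scheme.{u}}
    [D.Over (Spec (CommRingCat.of k))] [IsProper (D ↘ (Spec (CommRingCat.of k)))] [IsIntegral D]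
    (hD : topologicalKrullDim D = 1) :
    ∃ (N : Scheme.{u}) (_ : N.Over (Spec (CommRingCat.of k))) (ν : N ⟶ D),
      ν ≫ (D ↘ (Spec (CommRingCat.of k))) = N ↘ (Spec (CommRingCat.of k)) ∧ IsFinite ν ∧ Surjective ν ∧
      Curve.IsSmoothProperCurve k N (N ↘ (Spec (CommRingCat.of k))) ∧
      (∃ V : D.Opens, (V : Set D).Nonempty ∧ IsIso (ν ∣_ V)) ∧
      Curv2.genus k N ≤ Curv2.genus k D := by
  obtain ⟨N, ν, h1, h2, h3, h4, h5, V, hV, hV'⟩ :=
    K432.CurveNorm.exists_regular_model (D ↘ (Spec (CommRingCat.of k))) hD
  let iN : N.Over (Spec (CommRingCat.of k)) := ⟨ν ≫ (D ↘ (Spec (CommRingCat.of k)))⟩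
  have hs : Smooth (N ↘ (Spec (CommRingCat.of k))) := by
    have hlft : LocallyOfFiniteType (N ↘ (Spec (CommRingCat.of k))) :=
      inferInstanceAs (LocallyOfFiniteType (ν ≫ (D ↘ (Spec (CommRingCat.of k)))))
    have hlfp : LocallyOfFinitePresentation (N ↘ (Spec (CommRingCat.of k))) := inferInstance
    have h := (S1561.result k N).1
    have h' : (N ↘ (Spec (CommRingCat.of k))).smoothLocus = ⊤ := by
      rw [eq_top_iff]
      intro z _
      exact (h z).2 (h5 z)
    exact Scheme.Hom.smoothLocus_eq_top_iff.1 h'
  refine ⟨N, iN, ν, rfl, h1, h2, ⟨inferInstanceAs (IsProper (ν ≫ (D ↘ (Spec (CommRingCat.of k))))), hs, h3, h4⟩,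
    ⟨V, hV, hV'⟩, ?_⟩
  have hc : IsClosedImmersion (ν ∣_ V) := inferInstance
  exact S1566.result k D N hD.le ν rfl V (V.2.dense hV) hc

/-- If an integral proper curve `D` over an algebraically closed field dominates a smooth proper curve `E`, then the
genus of `E` is at most the arithmetic genus of `D`. -/
theorem genus_le_of_dominant' (k : Type u) [Field k] [IsAlgClosed k] {D E : Scheme.{u}}
    [D.Over (Spec (CommRingCat.of k))] [E.Over (Spec (CommRingCat.of k))] [IsProper (D ↘ (Spec (CommRingCat.of k)))]
    [IsIntegral D] (hD : topologicalKrullDim D = 1)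
    (hE : Curve.IsSmoothProperCurve k E (E ↘ (Spec (CommRingCat.of k))))
    (θ : D ⟶ E) (hθ : θ ≫ (E ↘ (Spec (CommRingCat.of k))) = D ↘ (Spec (CommRingCat.of k))) (hdom : IsDominant θ) :
    Curv2.genus k E ≤ Curv2.genus k D := by
  obtain ⟨N, iN, ν, hν, h1, h2, hN, -, hg⟩ := exists_smooth_model k (D := D) hD
  have h3 : IsDominant (ν ≫ θ) := inferInstance
  exact (genus_le_of_isSmoothProperCurve k hN hE (ν ≫ θ) (by rw [Category.assoc, hθ, hν])).trans hg

/-- If an integral proper curve `D` over an algebraically closed field of characteristic zero dominates a smooth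
proper curve `E` of positive genus, then the genus of `E` is at most the arithmetic genus of `D`. -/
theorem genus_le_of_dominant (k : Type u) [Field k] [IsAlgClosed k] [CharZero k] {D E : Scheme.{u}}
    [D.Over (Spec (CommRingCat.of k))] [E.Over (Spec (CommRingCat.of k))] [IsProper (D ↘ (Spec (CommRingCat.of k)))]
    [IsIntegral D] (hD : topologicalKrullDim D = 1)
    (hE : Curve.IsSmoothProperCurve k E (E ↘ (Spec (CommRingCat.of k))))
    (_hg1 : 1 ≤ Curv2.genus k E)
    (θ : D ⟶ E) (hθ : θ ≫ (E ↘ (Spec (CommRingCat.of k))) = D ↘ (Spec (CommRingCat.of k))) (hdom : IsDominant θ) :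
    Curv2.genus k E ≤ Curv2.genus k D :=
  genus_le_of_dominant' k hD hE θ hθ hdom

end K130.GenusDom
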